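import Groth.Agent.ExtSeqLib.Stalks
import Groth.Agent.HilbObsLib.Stalk
import Groth.Agent.RegLib.KPush

/-!
# The class of an exterior power of an extension
-/

set_option autoImplicit false
set_option backward.isDefEq.respectTransparency false
set_option linter.style.haveILetI false
set_option linter.unusedSectionVars false
set_option maxHeartbeats 1000000

universe u

open CategoryTheory CategoryTheory.Limits AlgebraicGeometry TopologicalSpace Opposite
open Groth.Agent.PullbackMod Groth.Agent.DCohLib

noncomputable section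

namespace Groth.Agent.ExtSeq

variable {X : Scheme.{u}} (D : Data X)

theorem Data.isFinLocFree_Q (hL' : ∀ i, FlatMod.IsFinLocFree (D.L' i)) (hL'' : ∀ i, FlatMod.IsFinLocFree (D.L'' i))
    (p k : ℕ) : FlatMod.IsFinLocFree (tmod (D.L' p) (D.L'' k)) :=
  DCohLib.isFinLocFree_tensor (hL' p) (hL'' k)

theorem stalkLin_comp_apply {M N K : X.Modules} (φ : M ⟶ N) (ψ : N ⟶ K) (x : X) (z : M.presheaf.stalk x) :
    stalkLin (φ ≫ ψ) x z = stalkLin ψ x (stalkLin φ x z) := by rw [stalkLin_comp]; rfl

/-- A map to the graded piece from a step of the filtration. -/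
theorem Data.exists_qbar {p k n : ℕ} (hn : p + k = n) :
    ∃ q : image (D.m hn) ⟶ tmod (D.L' p) (D.L'' k), factorThruImage (D.m hn) ≫ q = D.a p k := by
  have h0 : kernel.ι (D.m hn) ≫ D.a p k = 0 := (eq_zero_iff_stalk _).2 fun x => LinearMap.ext fun z => by
    rw [stalkLin_comp_apply, LinearMap.zero_apply]
    refine a_eq_zero D x hn ?_
    rw [← stalkLin_comp_apply, kernel.condition, DevLib.stalkLin_zero, LinearMap.zero_apply]
  let T := ShortComplex.mk (kernel.ι (D.m hn)) (factorThruImage (D.m hn))
    (by rw [← cancel_mono (image.ι (D.m hn)), Category.assoc, image.fac, kernel.condition, zero_comp])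
  have hT : T.Exact := by
    refine HilbObsLib.exact_of_stalk fun x z hz => ?_
    have hz' : stalkLin (D.m hn) x z = 0 := by
      rw [← image.fac (D.m hn), stalkLin_comp_apply]
      exact (congrArg _ hz).trans (map_zero _)
    let K := ShortComplex.mk (kernel.ι (D.m hn)) (D.m hn) (kernel.condition _)
    have hK : K.Exact := ShortComplex.exact_of_f_is_kernel _ (kernelIsKernel _)
    haveI : Mono K.f := inferInstanceAs (Mono (kernel.ι (D.m hn)))
    exact exists_of_exact K hK x z hz'
  haveI : Epi T.g := inferInstanceAs (Epi (factorThruImage (D.m hn)))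
  exact ⟨hT.desc (D.a p k) h0, hT.g_desc _ h0⟩
where
  exists_of_exact (K : ShortComplex X.Modules) (hK : K.Exact) (x : X) (z : K.X₂.presheaf.stalk x)
      (hz : stalkLin K.g x z = 0) : ∃ y, stalkLin K.f x y = z := by
    let l := Submodule.mkQ (LinearMap.range (stalkLin K.f x))
    haveI : Epi (Abelian.factorThruImage K.g) := inferInstance
    let K' := ShortComplex.mk K.f (Abelian.factorThruImage K.g)
      (by rw [← cancel_mono (Abelian.image.ι K.g), Category.assoc, Abelian.image.fac, K.zero, zero_comp])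
    have hK' : K'.Exact := (ShortComplex.exact_iff_of_epi_of_isIso_of_mono (S₁ := K') (S₂ := K)
      { τ₁ := 𝟙 _, τ₂ := 𝟙 _, τ₃ := Abelian.image.ι K.g }).2 hK
    haveI : Epi K'.g := inferInstanceAs (Epi (Abelian.factorThruImage K.g))
    refine (DCohLib.exact_stalkLin K' hK' x z).1 ?_
    refine (mono_iff_stalk (Abelian.image.ι K.g)).1 inferInstance x ?_
    rw [← stalkLin_comp_apply, Abelian.image.fac, hz, map_zero]

/-- The classes of the steps of the filtration. -/
theorem Data.cl_image (hL' : ∀ i, FlatMod.IsFinLocFree (D.L' i)) (hL'' : ∀ i, FlatMod.IsFinLocFree (D.L'' i)) {n : ℕ} :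
    ∀ (k p : ℕ) (hn : p + k = n), FlatMod.IsFinLocFree (image (D.m hn)) ∧
      KRR.cl X (image (D.m hn)) = ∑ i ∈ Finset.range (k + 1), KRR.cl X (tmod (D.L' (n - i)) (D.L'' i)) := by
  intro k
  induction k with
  | zero =>
    intro p hn
    obtain ⟨q, hq⟩ := D.exists_qbar hn
    haveI : IsIso q := by
      refine (isIso_iff_stalk q).2 fun x => ⟨(injective_iff_map_eq_zero _).2 fun w hw => ?_, fun z => ?_⟩
      · obtain ⟨z, rfl⟩ := (epi_iff_stalk (factorThruImage (D.m hn))).1 inferInstance x w
        rw [← stalkLin_comp_apply, hq] at hw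
        rw [injective_a_zero D x p (hw.trans (map_zero _).symm), map_zero]
      · obtain ⟨w, rfl⟩ := surjective_a D x p 0 z
        exact ⟨stalkLin (factorThruImage (D.m hn)) x w, by rw [← stalkLin_comp_apply, hq]⟩
    have hQ := D.isFinLocFree_Q hL' hL'' p 0
    obtain rfl : n = p := by omega
    refine ⟨DCohLib.isFinLocFree_iso (asIso q).symm hQ, ?_⟩
    rw [Finset.sum_range_one, Nat.sub_zero]
    exact RegLib.cl_iso (asIso q).symm hQ
  | succ k ih =>
    intro p hn
    have hn' : p + 1 + k = n := by omega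
    obtain ⟨hW, hcl⟩ := ih (p + 1) hn'
    obtain ⟨q, hq⟩ := D.exists_qbar hn
    have hzero : image.ι (D.m hn') ≫ cokernel.π (image.ι (D.m hn)) = 0 := by
      rw [← cancel_epi (factorThruImage (D.m hn')), ← Category.assoc, image.fac, comp_zero]
      refine (eq_zero_iff_stalk _).2 fun x => LinearMap.ext fun z' => ?_
      obtain ⟨z, hz⟩ := exists_m_eq D x hn hn' z'
      have h0 : D.m hn ≫ cokernel.π (image.ι (D.m hn)) = 0 :=
        (congrArg (· ≫ cokernel.π (image.ι (D.m hn))) (image.fac (D.m hn)).symm).trans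
          ((Category.assoc _ _ _).trans (by rw [cokernel.condition, comp_zero]))
      rw [stalkLin_comp_apply, ← hz, ← stalkLin_comp_apply, h0, DevLib.stalkLin_zero, LinearMap.zero_apply, LinearMap.zero_apply]
    let j : image (D.m hn') ⟶ image (D.m hn) := Abelian.monoLift (image.ι (D.m hn)) (image.ι (D.m hn')) hzero
    have hj : j ≫ image.ι (D.m hn) = image.ι (D.m hn') := Abelian.monoLift_comp _ _ _
    haveI : Mono j := mono_of_mono_fac hj
    have hcomp : ∀ (x : X) (z : (tmod (D.L' p) (D.L (k + 1))).presheaf.stalk x)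
        (z' : (tmod (D.L' (p + 1)) (D.L k)).presheaf.stalk x), stalkLin (D.m hn) x z = stalkLin (D.m hn') x z' →
        stalkLin j x (stalkLin (factorThruImage (D.m hn')) x z') = stalkLin (factorThruImage (D.m hn)) x z := by
      intro x z z' h
      refine (mono_iff_stalk (image.ι (D.m hn))).1 inferInstance x ?_
      rw [← stalkLin_comp_apply, hj, ← stalkLin_comp_apply, image.fac, ← stalkLin_comp_apply, image.fac, h]
    have hjq : j ≫ q = 0 := (eq_zero_iff_stalk _).2 fun x => LinearMap.ext fun w => by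
      obtain ⟨z', rfl⟩ := (epi_iff_stalk (factorThruImage (D.m hn'))).1 inferInstance x w
      obtain ⟨z, hz⟩ := exists_m_eq D x hn hn' z'
      rw [stalkLin_comp_apply, hcomp x z z' hz, ← stalkLin_comp_apply, hq, LinearMap.zero_apply]
      exact a_eq_zero_succ D x hn hn' hz
    let S := ShortComplex.mk j q hjq
    have hS : S.ShortExact :=
      { exact := HilbObsLib.exact_of_stalk fun x w hw => by
          obtain ⟨z, rfl⟩ := (epi_iff_stalk (factorThruImage (D.m hn))).1 inferInstance x w
          have hz : stalkLin (D.a p (k + 1)) x z = 0 := by rw [← hq, stalkLin_comp_apply]; exact hw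
          obtain ⟨z', hz'⟩ := exists_of_a_eq_zero D x hn hn' hz
          exact ⟨stalkLin (factorThruImage (D.m hn')) x z', hcomp x z z' hz'⟩
        mono_f := inferInstanceAs (Mono j)
        epi_g := (epi_iff_stalk q).2 fun x z => by
          obtain ⟨w, rfl⟩ := surjective_a D x p (k + 1) z
          exact ⟨stalkLin (factorThruImage (D.m hn)) x w, by rw [← stalkLin_comp_apply, hq]⟩ }
    have hQ : FlatMod.IsFinLocFree S.X₃ := D.isFinLocFree_Q hL' hL'' p (k + 1)
    have h2 : FlatMod.IsFinLocFree S.X₂ := RegLib.isFinLocFree_mid hS hW hQ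
    refine ⟨h2, ?_⟩
    refine (K0ResLib.clSub_add hS (hW : KRR.vbP X S.X₁) h2 hQ).trans ?_
    rw [Finset.sum_range_succ (n := k + 1)]
    show KRR.cl X (image (D.m hn')) + KRR.cl X (tmod (D.L' p) (D.L'' (k + 1))) = _
    rw [hcl, show p = n - (k + 1) by omega]

/-- The class of an exterior power of an extension. -/
theorem Data.cl_eq (hL' : ∀ i, FlatMod.IsFinLocFree (D.L' i)) (hL'' : ∀ i, FlatMod.IsFinLocFree (D.L'' i)) (n : ℕ)
    (hL : FlatMod.IsFinLocFree (D.L n)) :
    KRR.cl X (D.L n) = ∑ i ∈ Finset.range (n + 1), KRR.cl X (tmod (D.L' i) (D.L'' (n - i))) := by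
  have hn : 0 + n = n := Nat.zero_add n
  obtain ⟨hW, hcl⟩ := D.cl_image hL' hL'' n 0 hn
  haveI : Epi (D.m hn) := (epi_iff_stalk _).2 fun x => surjective_m_zero D x hn
  haveI : Epi (image.ι (D.m hn)) := epi_of_epi_fac (image.fac (D.m hn))
  haveI : IsIso (image.ι (D.m hn)) := isIso_of_mono_of_epi _
  rw [RegLib.cl_iso (asIso (image.ι (D.m hn))) hW, hcl, ← Finset.sum_range_reflect]
  refine Finset.sum_congr rfl fun i hi => ?_
  have := Finset.mem_range.1 hi
  rw [show n - (n + 1 - 1 - i) = i by omega, show n + 1 - 1 - i = n - i by omega]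

end Groth.Agent.ExtSeq
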