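import Groth.Agent.ExtSeqLib.Maps

/-!
# The exterior power filtration on stalks
-/

set_option autoImplicit false
set_option backward.isDefEq.respectTransparency false
set_option linter.style.haveILetI false
set_option linter.unusedSectionVars false
set_option maxHeartbeats 1000000

universe u

open CategoryTheory CategoryTheory.Limits AlgebraicGeometry TopologicalSpace Opposite
open Groth.Agent.PullbackMod Groth.Agent.DCohLib
open scoped TensorProduct

noncomputable section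

namespace Groth.Agent.ExtSeq

variable {X : Scheme.{u}} (D : Data X) (x : X)

/-- Germs with a vanishing image vanish on a smaller affine neighbourhood. -/
theorem exists_affine_eq {M : X.Modules} {U U' : X.Opens} (hx : x ∈ U) (hx' : x ∈ U') (s : Γ(M, U)) (s' : Γ(M, U'))
    (h : M.presheaf.germ U x hx s = M.presheaf.germ U' x hx' s') :
    ∃ (V : X.affineOpens) (_ : x ∈ V.1) (i : V.1 ≤ U) (i' : V.1 ≤ U'), rs M i s = rs M i' s' := by
  obtain ⟨W, hW, i, i', hWe⟩ := TopCat.Presheaf.germ_eq M.presheaf x hx hx' s s' h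
  obtain ⟨V, hV, hVW⟩ := exists_affine_nhd hW
  refine ⟨V, hV, hVW.trans (leOfHom i), hVW.trans (leOfHom i'), ?_⟩
  have h' := congrArg (rs M hVW) hWe
  rw [show i = homOfLE (leOfHom i) from Subsingleton.elim _ _,
    show i' = homOfLE (leOfHom i') from Subsingleton.elim _ _] at h'
  exact (rs_rs M _ _ s).symm.trans (h'.trans (rs_rs M _ _ s'))

/-- Germs of tensors, on a smaller neighbourhood. -/
theorem exists_rep_le {M N : X.Modules} {U : X.Opens} (z : (tmod M N).presheaf.stalk x) (hx : x ∈ U) :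
    ∃ (V : X.affineOpens) (hV : x ∈ V.1) (_ : V.1 ≤ U) (t : Γ(M, V.1) ⊗[Γ(X, V.1)] Γ(N, V.1)),
      (tmod M N).presheaf.germ V.1 x hV (beta M N V.1 t) = z := by
  obtain ⟨W, hW, t, rfl⟩ := exists_rep x z
  obtain ⟨V, hV, hVU⟩ := exists_affine_nhd (U := W.1 ⊓ U) ⟨hW, hx⟩
  obtain ⟨t', ht'⟩ := exists_beta_res (hVU.trans inf_le_left) t
  exact ⟨V, hV, hVU.trans inf_le_right, t', (congrArg _ ht').trans (TopCat.Presheaf.germ_res_apply _ _ x hV _)⟩

theorem exists_germ_affine {M : X.Modules} (z : M.presheaf.stalk x) :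
    ∃ (W : X.affineOpens) (hW : x ∈ W.1) (s : Γ(M, W.1)), M.presheaf.germ W.1 x hW s = z := by
  obtain ⟨U, hx, s, rfl⟩ := TopCat.Presheaf.exists_germ_eq M.presheaf z
  obtain ⟨W, hW, hWU⟩ := exists_affine_nhd hx
  exact ⟨W, hW, rs M hWU s, TopCat.Presheaf.germ_res_apply _ _ x hW _⟩

theorem surjective_projΓ (k : ℕ) (V : X.affineOpens) : Function.Surjective (D.projΓ k V) := by
  obtain ⟨-, -, s, hs⟩ := D.exists_split V
  have h := exteriorPower.map_surjective (n := k) (f := FlatLocus.appL D.S.g V.1) fun z =>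
    ⟨s z, LinearMap.congr_fun hs z⟩
  exact ((D.d'' k).φ V).symm.surjective.comp (h.comp ((D.d k).φ V).surjective)

theorem surjective_q (k : ℕ) : Function.Surjective (stalkLin (D.q k) x) := fun z => by
  obtain ⟨U, hx, s, rfl⟩ := TopCat.Presheaf.exists_germ_eq (D.L'' k).presheaf z
  obtain ⟨V, hV, hVU⟩ := exists_affine_nhd hx
  obtain ⟨t, ht⟩ := surjective_projΓ D k V (rs _ hVU s)
  refine ⟨(D.L k).presheaf.germ V.1 x hV t, ?_⟩
  rw [stalkLin_germ, D.q_app, ht]
  exact TopCat.Presheaf.germ_res_apply _ _ x hV _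

theorem injective_q_zero : Function.Injective (stalkLin (D.q 0) x) := by
  refine (injective_iff_map_eq_zero _).2 fun z hz => ?_
  obtain ⟨W, hW, s', rfl⟩ := exists_germ_affine x z
  rw [stalkLin_germ] at hz
  obtain ⟨V, hV, i, i', he⟩ := exists_affine_eq x hW hW _ 0 (hz.trans (map_zero _).symm)
  rw [rs_app, D.q_app, show rs _ i' (0 : Γ(D.L'' 0, W.1)) = 0 from map_zero _] at he
  have h0 : rs (D.L 0) i s' = 0 := by
    refine ((D.d 0).φ V).injective ?_
    rw [map_zero]
    have h1 := (((D.d'' 0).φ V).symm.map_eq_zero_iff).1 he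
    refine (exteriorPower.zeroEquiv Γ(X, V.1) _).injective ?_
    have h2 := LinearMap.congr_fun (exteriorPower.zeroEquiv_naturality (FlatLocus.appL D.S.g V.1)) ((D.d 0).φ V (rs (D.L 0) i s'))
    rw [LinearMap.comp_apply] at h2 h1
    erw [h1, map_zero] at h2
    rw [map_zero]
    exact h2.symm
  rw [← TopCat.Presheaf.germ_res_apply (D.L 0).presheaf (homOfLE i) x hV s']
  exact (congrArg _ h0).trans (map_zero _)

theorem surjective_a (p k : ℕ) : Function.Surjective (stalkLin (D.a p k) x) := fun z => by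
  obtain ⟨w, rfl⟩ := (stalkTensor x (D.L' p) (D.L'' k)).surjective z
  obtain ⟨v, rfl⟩ := LinearMap.lTensor_surjective _ (surjective_q D x k) w
  exact ⟨stalkTensor x _ _ v, stalkTensor_natural_right x (D.q k) v⟩

theorem injective_a_zero (p : ℕ) : Function.Injective (stalkLin (D.a p 0) x) := by
  let e := LinearEquiv.ofBijective (stalkLin (D.q 0) x) ⟨injective_q_zero D x, surjective_q D x 0⟩
  refine (injective_iff_map_eq_zero _).2 fun z hz => ?_
  obtain ⟨w, rfl⟩ := (stalkTensor x (D.L' p) (D.L 0)).surjective z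
  have h : stalkTensor x _ _ ((stalkLin (D.q 0) x).lTensor _ w) = 0 := (stalkTensor_natural_right x (D.q 0) w).symm.trans hz
  have h' := (stalkTensor x (D.L' p) (D.L'' 0)).map_eq_zero_iff.1 h
  rw [show stalkLin (D.q 0) x = e.toLinearMap from rfl] at h'
  rw [(e.lTensor _).map_eq_zero_iff.1 h', map_zero]

theorem surjective_m_zero {n : ℕ} (hn : 0 + n = n) : Function.Surjective (stalkLin (D.m hn) x) := fun z => by
  obtain ⟨U, hx, s, rfl⟩ := TopCat.Presheaf.exists_germ_eq (D.L n).presheaf z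
  obtain ⟨V, hV, hVU⟩ := exists_affine_nhd hx
  obtain ⟨w, hw⟩ := wedgeT_zero_surjective (FlatLocus.appL D.S.f V.1) hn ((D.d n).φ V (rs _ hVU s))
  obtain ⟨t, rfl⟩ := (TensorProduct.congr ((D.d' 0).φ V) ((D.d n).φ V)).surjective w
  refine ⟨(tmod _ _).presheaf.germ V.1 x hV (beta _ _ V.1 t), ?_⟩
  rw [stalkLin_germ, D.m_app]
  refine (congrArg (fun v => (D.L n).presheaf.germ V.1 x hV (((D.d n).φ V).symm v)) hw).trans ?_
  rw [LinearEquiv.symm_apply_apply]
  exact TopCat.Presheaf.germ_res_apply _ _ x hV _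

/-- Vanishing in the product forces vanishing in the graded piece. -/
theorem a_eq_zero {p k n : ℕ} (hn : p + k = n) {z : (tmod (D.L' p) (D.L k)).presheaf.stalk x}
    (hz : stalkLin (D.m hn) x z = 0) : stalkLin (D.a p k) x z = 0 := by
  obtain ⟨W, hW, t, rfl⟩ := exists_rep x z
  rw [stalkLin_germ, D.m_app] at hz
  obtain ⟨V, hV, i, i', he⟩ := exists_affine_eq x hW hW _ 0 (hz.trans (map_zero _).symm)
  obtain ⟨t', ht'⟩ := exists_beta_res i t
  rw [← TopCat.Presheaf.germ_res_apply (tmod (D.L' p) (D.L k)).presheaf (homOfLE i) x hV]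
  rw [show (tmod (D.L' p) (D.L k)).presheaf.map (homOfLE i).op (beta _ _ W.1 t) = beta _ _ V.1 t' from ht'.symm]
  have hm : D.wedgeΓ hn V t' = 0 := by
    rw [← D.m_app, ht', ← rs_app, D.m_app]
    exact he.trans (map_zero _)
  obtain ⟨hf, hex, s, hs⟩ := D.exists_split V
  rw [stalkLin_germ, D.a_app, D.lTensor_projΓ_eq_zero p k V t'
    (lTensor_eq_zero hf hex hs hn _ ((((D.d n).φ V).symm.map_eq_zero_iff).1 hm)), map_zero, map_zero]

/-- A product in the next step forces vanishing in the graded piece. -/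
theorem a_eq_zero_succ {p k n : ℕ} (hn : p + (k + 1) = n) (hn' : p + 1 + k = n)
    {z : (tmod (D.L' p) (D.L (k + 1))).presheaf.stalk x} {z' : (tmod (D.L' (p + 1)) (D.L k)).presheaf.stalk x}
    (hz : stalkLin (D.m hn) x z = stalkLin (D.m hn') x z') : stalkLin (D.a p (k + 1)) x z = 0 := by
  obtain ⟨W, hW, t, rfl⟩ := exists_rep x z
  obtain ⟨W', hW', t₁, rfl⟩ := exists_rep x z'
  rw [stalkLin_germ, D.m_app, stalkLin_germ, D.m_app] at hz
  obtain ⟨V, hV, i, i', he⟩ := exists_affine_eq x hW hW' _ _ hz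
  obtain ⟨t', ht'⟩ := exists_beta_res i t
  obtain ⟨t₁', ht₁'⟩ := exists_beta_res i' t₁
  rw [← TopCat.Presheaf.germ_res_apply (tmod (D.L' p) (D.L (k + 1))).presheaf (homOfLE i) x hV]
  rw [show (tmod (D.L' p) (D.L (k + 1))).presheaf.map (homOfLE i).op (beta _ _ W.1 t) = beta _ _ V.1 t' from ht'.symm]
  have hm : D.wedgeΓ hn V t' = D.wedgeΓ hn' V t₁' := by
    rw [← D.m_app, ht', ← D.m_app, ht₁', ← rs_app, ← rs_app, D.m_app, D.m_app]
    exact he
  obtain ⟨hf, hex, s, hs⟩ := D.exists_split V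
  rw [stalkLin_germ, D.a_app, D.lTensor_projΓ_eq_zero p (k + 1) V t'
    (lTensor_eq_zero_succ hf hex hs hn hn' _ _ (((D.d n).φ V).symm.injective hm)), map_zero, map_zero]

/-- The filtration is decreasing. -/
theorem exists_m_eq {p k n : ℕ} (hn : p + (k + 1) = n) (hn' : p + 1 + k = n)
    (z' : (tmod (D.L' (p + 1)) (D.L k)).presheaf.stalk x) :
    ∃ z, stalkLin (D.m hn) x z = stalkLin (D.m hn') x z' := by
  obtain ⟨V, hV, t, rfl⟩ := exists_rep x z'
  obtain ⟨w, hw⟩ := range_succ_le (FlatLocus.appL D.S.f V.1) hn' hn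
    ⟨TensorProduct.map ((D.d' (p + 1)).φ V).toLinearMap ((D.d k).φ V).toLinearMap t, rfl⟩
  obtain ⟨t', rfl⟩ := (TensorProduct.congr ((D.d' p).φ V) ((D.d (k + 1)).φ V)).surjective w
  refine ⟨(tmod _ _).presheaf.germ V.1 x hV (beta _ _ V.1 t'), ?_⟩
  rw [stalkLin_germ, D.m_app, stalkLin_germ, D.m_app]
  exact congrArg (fun v => (D.L n).presheaf.germ V.1 x hV (((D.d n).φ V).symm v)) hw

/-- The kernel of the projection is the first step. -/
theorem exists_of_q_eq_zero {k : ℕ} (h : 1 + k = k + 1) {z : (D.L (k + 1)).presheaf.stalk x}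
    (hz : stalkLin (D.q (k + 1)) x z = 0) : ∃ y, stalkLin (D.m h) x y = z := by
  obtain ⟨W, hW, s, rfl⟩ := exists_germ_affine x z
  rw [stalkLin_germ] at hz
  obtain ⟨V, hV, i, i', he⟩ := exists_affine_eq x hW hW _ 0 (hz.trans (map_zero _).symm)
  rw [rs_app, D.q_app, show rs _ i' (0 : Γ(D.L'' (k + 1), W.1)) = 0 from map_zero _] at he
  obtain ⟨hf, hex, σ, hσ⟩ := D.exists_split V
  have h1 := (((D.d'' (k + 1)).φ V).symm.map_eq_zero_iff).1 he
  obtain ⟨w, hw⟩ := ker_map_le hf hex hσ h (LinearMap.mem_ker.2 h1)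
  obtain ⟨t, rfl⟩ := (TensorProduct.congr ((D.d' 1).φ V) ((D.d k).φ V)).surjective w
  refine ⟨(tmod _ _).presheaf.germ V.1 x hV (beta _ _ V.1 t), ?_⟩
  rw [stalkLin_germ, D.m_app]
  refine (congrArg (fun v => (D.L (k + 1)).presheaf.germ V.1 x hV (((D.d (k + 1)).φ V).symm v)) hw).trans ?_
  show (D.L (k + 1)).presheaf.germ V.1 x hV (((D.d (k + 1)).φ V).symm ((D.d (k + 1)).φ V (rs _ i s))) = _
  rw [LinearEquiv.symm_apply_apply]
  exact TopCat.Presheaf.germ_res_apply _ _ x hV _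

/-- Products through the first step land in the next step. -/
theorem exists_m_assoc {p k n : ℕ} (hn : p + (k + 1) = n) (hn' : p + 1 + k = n) (h : 1 + k = k + 1)
    (w : (D.L' p).presheaf.stalk x ⊗[X.presheaf.stalk x] (tmod (D.L' 1) (D.L k)).presheaf.stalk x) :
    ∃ z', stalkLin (D.m hn) x (stalkTensor x _ _ ((stalkLin (D.m h) x).lTensor _ w)) = stalkLin (D.m hn') x z' := by
  induction w using TensorProduct.induction_on with
  | zero => exact ⟨0, by simp⟩
  | add a b ha hb =>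
    obtain ⟨a', ha'⟩ := ha
    obtain ⟨b', hb'⟩ := hb
    exact ⟨a' + b', by simp only [map_add, ha', hb']⟩
  | tmul a c =>
    obtain ⟨U, hU, a₀, rfl⟩ := TopCat.Presheaf.exists_germ_eq (D.L' p).presheaf a
    obtain ⟨V, hV, hVU, t, rfl⟩ := exists_rep_le x c hU
    rw [LinearMap.lTensor_tmul, stalkLin_germ, D.m_app,
      ← TopCat.Presheaf.germ_res_apply (D.L' p).presheaf (homOfLE hVU) x hV a₀]
    show ∃ z', stalkLin (D.m hn) x (stalkTensorHom x _) = _
    rw [stalkTensorHom_tmul, stalkLin_germ]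
    have key : ∀ (a₁ : Γ(D.L' p, V.1)) (t : Γ(D.L' 1, V.1) ⊗[Γ(X, V.1)] Γ(D.L k, V.1)), ∃ t' : Γ(D.L' (p + 1), V.1) ⊗[Γ(X, V.1)] Γ(D.L k, V.1),
        D.wedgeΓ hn' V t' = D.wedgeΓ hn V (a₁ ⊗ₜ D.wedgeΓ h V t) := by
      intro a₁ t
      induction t using TensorProduct.induction_on with
      | zero => exact ⟨0, by simp⟩
      | add b c hb hc =>
        obtain ⟨b', hb'⟩ := hb
        obtain ⟨c', hc'⟩ := hc
        exact ⟨b' + c', by rw [map_add, map_add, TensorProduct.tmul_add, map_add, hb', hc']⟩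
      | tmul e w =>
        refine ⟨((D.d' (p + 1)).φ V).symm (wedge LinearMap.id rfl ((D.d' p).φ V a₁) ((D.d' 1).φ V e)) ⊗ₜ w, ?_⟩
        show ((D.d n).φ V).symm (wedge _ hn' ((D.d' (p + 1)).φ V (((D.d' (p + 1)).φ V).symm _)) ((D.d k).φ V w)) =
          ((D.d n).φ V).symm (wedge _ hn ((D.d' p).φ V a₁) ((D.d (k + 1)).φ V (((D.d (k + 1)).φ V).symm
            (wedge _ h ((D.d' 1).φ V e) ((D.d k).φ V w)))))
        rw [LinearEquiv.apply_symm_apply, LinearEquiv.apply_symm_apply, wedge_assoc _ rfl hn' h hn]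
    obtain ⟨t', ht'⟩ := key (rs (D.L' p) hVU a₀) t
    refine ⟨(tmod _ _).presheaf.germ V.1 x hV (beta _ _ V.1 t'), ?_⟩
    rw [stalkLin_germ, D.m_app, ← beta_tmul, D.m_app, ht']

/-- The kernel of the map to a graded piece goes to the next step. -/
theorem exists_of_a_eq_zero {p k n : ℕ} (hn : p + (k + 1) = n) (hn' : p + 1 + k = n)
    {z : (tmod (D.L' p) (D.L (k + 1))).presheaf.stalk x} (hz : stalkLin (D.a p (k + 1)) x z = 0) :
    ∃ z', stalkLin (D.m hn) x z = stalkLin (D.m hn') x z' := by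
  have h : 1 + k = k + 1 := Nat.add_comm 1 k
  obtain ⟨u, rfl⟩ := (stalkTensor x (D.L' p) (D.L (k + 1))).surjective z
  have h' := (stalkTensor x (D.L' p) (D.L'' (k + 1))).map_eq_zero_iff.1
    ((stalkTensor_natural_right x (D.q (k + 1)) u).symm.trans hz)
  have hex : Function.Exact (stalkLin (D.m h) x) (stalkLin (D.q (k + 1)) x) := fun y => by
    refine ⟨fun hy => exists_of_q_eq_zero D x h hy, ?_⟩
    rintro ⟨c, rfl⟩
    obtain ⟨V, hV, t, rfl⟩ := exists_rep x c
    rw [stalkLin_germ, D.m_app, stalkLin_germ, D.q_app]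
    suffices h0 : D.projΓ (k + 1) V (D.wedgeΓ h V t) = 0 by rw [h0, map_zero]
    induction t using TensorProduct.induction_on with
    | zero => simp
    | add b c hb hc => rw [map_add, map_add, hb, hc, add_zero]
    | tmul e w =>
      show ((D.d'' (k + 1)).φ V).symm (exteriorPower.map (k + 1) _ ((D.d (k + 1)).φ V (((D.d (k + 1)).φ V).symm
        (wedge _ h ((D.d' 1).φ V e) ((D.d k).φ V w))))) = 0
      rw [LinearEquiv.apply_symm_apply, map_eq_zero_iff _ ((D.d'' (k + 1)).φ V).symm.injective]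
      obtain ⟨-, hex', -⟩ := D.exists_split V
      exact map_wedge_one _ hex' h _ _
  obtain ⟨w, rfl⟩ := (lTensor_exact _ hex (surjective_q D x (k + 1)) u).1 h'
  exact exists_m_assoc D x hn hn' h w

end Groth.Agent.ExtSeq
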