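import Mathlib.LinearAlgebra.ExteriorPower.Basic
import Mathlib.LinearAlgebra.Alternating.DomCoprod
import Mathlib.LinearAlgebra.TensorProduct.RightExactness

/-!
# Exterior powers of an extension of modules
-/

set_option autoImplicit false
set_option maxHeartbeats 800000

universe u

open exteriorPower
open scoped TensorProduct

noncomputable section

namespace Groth.Agent.ExtSeq

variable {R : Type u} [CommRing R] {M' M M'' : Type u} [AddCommGroup M'] [AddCommGroup M] [AddCommGroup M'']
  [Module R M'] [Module R M] [Module R M'']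

theorem coe_map_ιMulti {N : Type u} [AddCommGroup N] [Module R N] (f : M' →ₗ[R] N) {p : ℕ} (a : Fin p → M') :
    ((exteriorPower.map p f (exteriorPower.ιMulti R p a) : ⋀[R]^p N) : ExteriorAlgebra R N) =
      ExteriorAlgebra.ιMulti R p (f ∘ a) := by
  rw [exteriorPower.map_apply_ιMulti]
  rfl

theorem mul_mem {p k n : ℕ} (h : p + k = n) (x : ⋀[R]^p M) (y : ⋀[R]^k M) :
    (x : ExteriorAlgebra R M) * y ∈ (⋀[R]^n M) := by
  subst h
  show _ ∈ LinearMap.range (ExteriorAlgebra.ι R : M →ₗ[R] ExteriorAlgebra R M) ^ (p + k)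
  rw [pow_add]
  exact Submodule.mul_mem_mul x.2 y.2

variable (f : M' →ₗ[R] M)

/-- The product of exterior powers of a submodule and of the module. -/
def wedge {p k n : ℕ} (h : p + k = n) : (⋀[R]^p M') →ₗ[R] (⋀[R]^k M) →ₗ[R] (⋀[R]^n M) :=
  LinearMap.mk₂ R (fun x y => ⟨(exteriorPower.map p f x : ExteriorAlgebra R M) * (y : ExteriorAlgebra R M), mul_mem h _ _⟩)
    (fun x x' y => Subtype.ext (by simp [map_add, add_mul]))
    (fun c x y => Subtype.ext (by simp [map_smul]))
    (fun x y y' => Subtype.ext (by simp [mul_add]))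
    (fun c x y => Subtype.ext (by simp))

/-- The product of exterior powers, on the tensor product. -/
def wedgeT {p k n : ℕ} (h : p + k = n) : (⋀[R]^p M') ⊗[R] (⋀[R]^k M) →ₗ[R] (⋀[R]^n M) :=
  TensorProduct.lift (wedge f h)

theorem wedge_ιMulti {p k n : ℕ} (h : p + k = n) (a : Fin p → M') (e : Fin k → M) :
    wedge f h (exteriorPower.ιMulti R p a) (exteriorPower.ιMulti R k e) =
      exteriorPower.ιMulti R n (fun i => Fin.append (f ∘ a) e (Fin.cast h.symm i)) := by
  subst h
  refine Subtype.ext ?_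
  show ((exteriorPower.map p f (exteriorPower.ιMulti R p a) : ⋀[R]^p M) : ExteriorAlgebra R M) * _ = _
  rw [coe_map_ιMulti]
  simp only [exteriorPower.ιMulti_apply_coe, Fin.cast_eq_self]
  simp only [ExteriorAlgebra.ιMulti_apply]
  rw [← List.prod_append]
  congr 1
  have h : (fun i => ExteriorAlgebra.ι R (Fin.append (f ∘ a) e i)) =
      Fin.append (fun i => ExteriorAlgebra.ι R (f (a i))) fun i => ExteriorAlgebra.ι R (e i) := by
    funext i
    refine Fin.addCases (fun i => ?_) (fun i => ?_) i <;> simp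
  rw [h, List.ofFn_fin_append]
  rfl

/-- Linear maps agreeing on products of generators agree. -/
theorem hom_ext {p k : ℕ} {N : Type u} [AddCommGroup N] [Module R N]
    {F G : (⋀[R]^p M') ⊗[R] (⋀[R]^k M) →ₗ[R] N}
    (h : ∀ (a : Fin p → M') (e : Fin k → M), F (exteriorPower.ιMulti R p a ⊗ₜ exteriorPower.ιMulti R k e) =
      G (exteriorPower.ιMulti R p a ⊗ₜ exteriorPower.ιMulti R k e)) : F = G :=
  TensorProduct.ext (exteriorPower.linearMap_ext (AlternatingMap.ext fun a =>
    exteriorPower.linearMap_ext (AlternatingMap.ext fun e => h a e)))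

/-- The filtration is decreasing. -/
theorem range_succ_le {p k n : ℕ} (h : p + 1 + k = n) (h' : p + (k + 1) = n) :
    LinearMap.range (wedgeT f h) ≤ LinearMap.range (wedgeT f h') := by
  rintro _ ⟨t, rfl⟩
  have key : ∀ x y, wedgeT f h (x ⊗ₜ y) ∈ LinearMap.range (wedgeT f h') := by
    intro x y
    have hgen : ∀ a : Fin (p + 1) → M', wedgeT f h (exteriorPower.ιMulti R (p + 1) a ⊗ₜ y) ∈ LinearMap.range (wedgeT f h') := by
      intro a
      have hy : (ExteriorAlgebra.ι R (f (a (Fin.last p))) : ExteriorAlgebra R M) * y ∈ ⋀[R]^(k + 1) M := by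
        have := mul_mem (show 1 + k = k + 1 by omega)
          (exteriorPower.map 1 f (exteriorPower.ιMulti R 1 fun _ => a (Fin.last p))) y
        rwa [coe_map_ιMulti, ExteriorAlgebra.ιMulti_succ_apply, ExteriorAlgebra.ιMulti_zero_apply, mul_one] at this
      refine ⟨exteriorPower.ιMulti R p (fun i => a i.castSucc) ⊗ₜ ⟨_, hy⟩, Subtype.ext ?_⟩
      show ((exteriorPower.map p f _ : ⋀[R]^p M) : ExteriorAlgebra R M) * _ =
        ((exteriorPower.map (p + 1) f _ : ⋀[R]^(p + 1) M) : ExteriorAlgebra R M) * _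
      rw [coe_map_ιMulti, coe_map_ιMulti, ← mul_assoc]
      congr 1
      simp only [ExteriorAlgebra.ιMulti_apply]
      rw [List.ofFn_succ_last, List.prod_append]
      simp
    have hx : x ∈ (LinearMap.range (wedgeT f h')).comap
        ((wedgeT f h).comp ((TensorProduct.mk R _ _).flip y)) := by
      have hs := exteriorPower.ιMulti_span R (p + 1) (M := M')
      refine (Submodule.span_le.2 ?_) (hs ▸ Submodule.mem_top (x := x))
      rintro _ ⟨a, rfl⟩
      exact hgen a
    exact hx
  induction t using TensorProduct.induction_on with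
  | zero => rw [map_zero]; exact Submodule.zero_mem _
  | tmul x y => exact key x y
  | add a b ha hb => rw [map_add]; exact Submodule.add_mem _ ha hb

/-- Products of exterior powers are associative. -/
theorem wedge_assoc {p q k n m r : ℕ} (h₁ : p + q = m) (h₂ : m + k = n) (h₃ : q + k = r) (h₄ : p + r = n)
    (x : ⋀[R]^p M') (y : ⋀[R]^q M') (w : ⋀[R]^k M) :
    wedge f h₄ x (wedge f h₃ y w) = wedge f h₂ (wedge LinearMap.id h₁ x y) w := by
  have key : ∀ (x : ⋀[R]^p M') (y : ⋀[R]^q M'),
      (exteriorPower.map m f (wedge LinearMap.id h₁ x y) : ExteriorAlgebra R M) =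
        (exteriorPower.map p f x : ExteriorAlgebra R M) * (exteriorPower.map q f y : ExteriorAlgebra R M) := by
    intro x y
    let l : (⋀[R]^p M') →ₗ[R] (⋀[R]^q M') →ₗ[R] (⋀[R]^m M) :=
      (wedge LinearMap.id h₁).compr₂ (exteriorPower.map m f)
    let r : (⋀[R]^p M') →ₗ[R] (⋀[R]^q M') →ₗ[R] (⋀[R]^m M) :=
      (wedge f h₁).compl₂ (exteriorPower.map q f)
    suffices h : l = r from congrArg Subtype.val (LinearMap.congr_fun (LinearMap.congr_fun h x) y)
    refine exteriorPower.linearMap_ext (AlternatingMap.ext fun a => exteriorPower.linearMap_ext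
      (AlternatingMap.ext fun b => ?_))
    show exteriorPower.map m f (wedge LinearMap.id h₁ (exteriorPower.ιMulti R p a) (exteriorPower.ιMulti R q b)) =
      wedge f h₁ (exteriorPower.ιMulti R p a) (exteriorPower.map q f (exteriorPower.ιMulti R q b))
    rw [wedge_ιMulti, exteriorPower.map_apply_ιMulti, exteriorPower.map_apply_ιMulti, wedge_ιMulti]
    congr 1
    funext i
    simp only [Function.comp_apply, LinearMap.id_coe, id_eq]
    refine Fin.addCases (fun j => ?_) (fun j => ?_) (Fin.cast h₁.symm i) <;> simp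
  refine Subtype.ext ?_
  show (exteriorPower.map p f x : ExteriorAlgebra R M) *
      ((exteriorPower.map q f y : ExteriorAlgebra R M) * (w : ExteriorAlgebra R M)) =
    (exteriorPower.map m f (wedge LinearMap.id h₁ x y) : ExteriorAlgebra R M) * (w : ExteriorAlgebra R M)
  rw [key, mul_assoc]

/-- The first step of the filtration projects to zero. -/
theorem map_wedge_one {g : M →ₗ[R] M''} (hex : Function.Exact f g) {k n : ℕ} (h : 1 + k = n)
    (x : ⋀[R]^1 M') (y : ⋀[R]^k M) : exteriorPower.map n g (wedge f h x y) = 0 := by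
  suffices hl : (wedge f h).compr₂ (exteriorPower.map n g) = 0 from LinearMap.congr_fun (LinearMap.congr_fun hl x) y
  refine exteriorPower.linearMap_ext (AlternatingMap.ext fun a => exteriorPower.linearMap_ext
    (AlternatingMap.ext fun b => ?_))
  show exteriorPower.map n g (wedge f h (exteriorPower.ιMulti R 1 a) (exteriorPower.ιMulti R k b)) = 0
  rw [wedge_ιMulti, exteriorPower.map_apply_ιMulti]
  refine (exteriorPower.ιMulti R n).map_coord_zero ⟨0, by omega⟩ ?_
  rw [Function.comp_apply, show Fin.cast h.symm ⟨0, _⟩ = Fin.castAdd k (0 : Fin 1) from Fin.ext rfl, Fin.append_left]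
  exact hex.apply_apply_eq_zero _

theorem wedgeT_zero_surjective {n : ℕ} (h : 0 + n = n) : Function.Surjective (wedgeT f h) := fun y =>
  ⟨exteriorPower.ιMulti R 0 (fun i => i.elim0) ⊗ₜ y, Subtype.ext (by
    show ((exteriorPower.map 0 f _ : ⋀[R]^0 M) : ExteriorAlgebra R M) * _ = _
    rw [coe_map_ιMulti, ExteriorAlgebra.ιMulti_zero_apply, one_mul])⟩

section Split

variable {f} {g : M →ₗ[R] M''} (hf : Function.Injective f) (hex : Function.Exact f g)
  {s : M'' →ₗ[R] M} (hs : g.comp s = LinearMap.id)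

include hf hex hs in
theorem exists_retraction : ∃ ρ : M →ₗ[R] M', (∀ a, ρ (f a) = a) ∧ ∀ v, f (ρ v) = v - s (g v) := by
  have hmem : ∀ v, v - s (g v) ∈ LinearMap.range f := fun v => by
    refine (hex _).1 ?_
    rw [map_sub]
    exact sub_eq_zero.2 (LinearMap.congr_fun hs (g v)).symm
  let e := LinearEquiv.ofInjective f hf
  let ρ : M →ₗ[R] M' := e.symm.toLinearMap.comp ((LinearMap.id - s.comp g).codRestrict _ hmem)
  have hρ : ∀ v, f (ρ v) = v - s (g v) := fun v =>
    congrArg Subtype.val (e.apply_symm_apply ⟨_, hmem v⟩)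
  refine ⟨ρ, fun a => hf ?_, hρ⟩
  rw [hρ, hex.apply_apply_eq_zero, map_zero, sub_zero]

include hf hex hs in
/-- The retraction onto a graded piece. -/
theorem exists_theta {p k n : ℕ} (h : p + k = n) :
    ∃ θ : (⋀[R]^n M) →ₗ[R] (⋀[R]^p M') ⊗[R] (⋀[R]^k M''),
      (∀ t, θ (wedgeT f h t) = (exteriorPower.map k g).lTensor _ t) ∧
      ∀ (p' k' : ℕ) (h' : p' + k' = n), p < p' → ∀ t, θ (wedgeT f h' t) = 0 := by
  classical
  obtain ⟨ρ, hρ, -⟩ := exists_retraction hf hex hs
  let e : Fin p ⊕ Fin k ≃ Fin n := finSumFinEquiv.trans (finCongr h)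
  let A := ((exteriorPower.ιMulti R p (M := M')).compLinearMap ρ)
  let B := ((exteriorPower.ιMulti R k (M := M'')).compLinearMap g)
  letI : AddCommGroup ((⋀[R]^p M') ⊗[R] (⋀[R]^k M'')) := inferInstance
  let θ : (⋀[R]^n M) →ₗ[R] (⋀[R]^p M') ⊗[R] (⋀[R]^k M'') :=
    exteriorPower.alternatingMapLinearEquiv (R := R) (n := n) (M := M) (N := (⋀[R]^p M') ⊗[R] (⋀[R]^k M''))
      (AlternatingMap.domDomCongr e (A.domCoprod B))
  have hθ : ∀ v : Fin n → M, θ (exteriorPower.ιMulti R n v) =
      ∑ σ : Equiv.Perm.ModSumCongr (Fin p) (Fin k), AlternatingMap.domCoprod.summand A B σ (v ∘ e) := fun v => by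
    simp only [θ, exteriorPower.alternatingMapLinearEquiv_apply_ιMulti, AlternatingMap.domDomCongr_apply,
      AlternatingMap.domCoprod_apply, sum_apply]
  have hsummand : ∀ (σ : Equiv.Perm (Fin p ⊕ Fin k)) (v : Fin p ⊕ Fin k → M),
      (∃ j, g (v (σ (Sum.inr j))) = 0) → AlternatingMap.domCoprod.summand A B (Quotient.mk'' σ) v = 0 := by
    rintro σ v ⟨j, hj⟩
    rw [AlternatingMap.domCoprod.summand_mk'']
    simp only [smul_apply, MultilinearMap.domDomCongr_apply, MultilinearMap.domCoprod_apply,
      AlternatingMap.coe_multilinearMap]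
    rw [show (B fun i => v (σ (Sum.inr i))) = 0 from
      (exteriorPower.ιMulti R k (M := M'')).map_coord_zero j hj, TensorProduct.tmul_zero, smul_zero]
  refine ⟨θ, fun t => LinearMap.congr_fun (hom_ext (F := θ.comp (wedgeT f h)) fun a v => ?_) t, fun p' k' h' hp t =>
    LinearMap.congr_fun (hom_ext (F := θ.comp (wedgeT f h')) (G := 0) fun a v => ?_) t⟩
  · show θ (wedge f h (exteriorPower.ιMulti R p a) (exteriorPower.ιMulti R k v)) = _
    rw [wedge_ιMulti, hθ]
    have hv : (fun i => Fin.append (f ∘ a) v (Fin.cast h.symm i)) ∘ e = Sum.elim (f ∘ a) v := by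
      funext i
      rcases i with i | i <;> simp [e]
    rw [hv]
    refine (Finset.sum_eq_single (Quotient.mk'' (1 : Equiv.Perm (Fin p ⊕ Fin k))) ?_ ?_).trans ?_
    rotate_left 2
    · rw [AlternatingMap.domCoprod.summand_mk'']
      simp only [Equiv.Perm.sign_one, one_smul, MultilinearMap.domDomCongr_apply, MultilinearMap.domCoprod_apply,
        AlternatingMap.coe_multilinearMap, Equiv.Perm.coe_one, id_eq, Sum.elim_inl, Sum.elim_inr,
        LinearMap.lTensor_tmul, exteriorPower.map_apply_ιMulti]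
      show (exteriorPower.ιMulti R p fun i => ρ (f (a i))) ⊗ₜ[R] (exteriorPower.ιMulti R k fun i => g (v i)) = _
      simp only [hρ]
      rfl
    · intro σ _ hσ
      induction σ using Quotient.inductionOn' with | _ σ
      refine hsummand σ _ ?_
      by_contra hne
      push_neg at hne
      apply hσ
      refine Quotient.sound' (QuotientGroup.leftRel_apply.2 ?_)
      have h1 : ∀ j, ∃ j', σ (Sum.inr j) = Sum.inr j' := fun j => by
        rcases hj : σ (Sum.inr j) with i | i
        · exact absurd (by rw [hj]; exact hex.apply_apply_eq_zero (a i)) (hne j)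
        · exact ⟨i, rfl⟩
      have h2 : Set.MapsTo σ (Set.range (Sum.inl : Fin p → Fin p ⊕ Fin k)) (Set.range Sum.inl) := by
        rintro _ ⟨i, rfl⟩
        rcases hi : σ (Sum.inl i) with i' | i'
        · exact ⟨i', rfl⟩
        · exfalso
          choose j' hj' using h1
          have hinj : Function.Injective j' := fun x y hxy => by
            have h3 : σ (Sum.inr x) = σ (Sum.inr y) := by rw [hj', hj', hxy]
            exact Sum.inr.inj (σ.injective h3)
          obtain ⟨x, hx⟩ := (Finite.injective_iff_surjective.1 hinj) i'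
          exact Sum.inr_ne_inl (σ.injective ((hj' x).trans ((congrArg Sum.inr hx).trans hi.symm)))
      rw [mul_one]
      exact inv_mem (Equiv.Perm.mem_sumCongrHom_range_of_perm_mapsTo_inl h2)
    · simp
  · show θ (wedge f h' (exteriorPower.ιMulti R p' a) (exteriorPower.ιMulti R k' v)) = _
    rw [wedge_ιMulti, hθ]
    refine Finset.sum_eq_zero fun σ _ => ?_
    induction σ using Quotient.inductionOn' with | _ σ
    refine hsummand σ _ ?_
    by_contra hne
    push_neg at hne
    let T : Fin p' → Fin p ⊕ Fin k := fun i => σ.symm (e.symm (Fin.cast h' (Fin.castAdd k' i)))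
    have hT : ∀ i, ∃ i', T i = Sum.inl i' := fun i => by
      rcases hi : T i with i' | i'
      · exact ⟨i', rfl⟩
      · refine absurd ?_ (hne i')
        rw [← hi]
        simp only [T, Function.comp_apply, Equiv.apply_symm_apply, Fin.cast_cast, Fin.cast_eq_self, Fin.append_left]
        exact hex.apply_apply_eq_zero _
    choose i' hi' using hT
    have hinj : Function.Injective i' := fun x y hxy => by
      have h4 : T x = T y := by rw [hi', hi', hxy]
      exact Fin.castAdd_injective _ _ (Fin.cast_injective _ (e.symm.injective (σ.symm.injective h4)))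
    have := Fintype.card_le_of_injective i' hinj
    simp at this
    omega

include hf hex hs in
theorem lTensor_eq_zero {p k n : ℕ} (h : p + k = n) (t : (⋀[R]^p M') ⊗[R] (⋀[R]^k M)) (ht : wedgeT f h t = 0) :
    (exteriorPower.map k g).lTensor _ t = 0 := by
  obtain ⟨θ, h1, -⟩ := exists_theta hf hex hs h
  rw [← h1, ht, map_zero]

include hf hex hs in
theorem lTensor_eq_zero_succ {p k n : ℕ} (h : p + (k + 1) = n) (h' : p + 1 + k = n)
    (t : (⋀[R]^p M') ⊗[R] (⋀[R]^(k + 1) M)) (t' : (⋀[R]^(p + 1) M') ⊗[R] (⋀[R]^k M))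
    (ht : wedgeT f h t = wedgeT f h' t') : (exteriorPower.map (k + 1) g).lTensor _ t = 0 := by
  obtain ⟨θ, h1, h2⟩ := exists_theta hf hex hs h
  rw [← h1, ht, h2 _ _ h' (Nat.lt_succ_self p)]

include hf hex hs in
/-- The kernel of the projection of exterior powers. -/
theorem ker_map_le {k : ℕ} (h : 1 + k = k + 1) :
    LinearMap.ker (exteriorPower.map (k + 1) g) ≤ LinearMap.range (wedgeT f h) := by
  obtain ⟨ρ, -, hρ⟩ := exists_retraction hf hex hs
  have key : ∀ (k : ℕ) (h : 1 + k = k + 1) (v : Fin (k + 1) → M),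
      ∃ y : (⋀[R]^1 M') ⊗[R] (⋀[R]^k M), (wedgeT f h y : ExteriorAlgebra R M) =
        ExteriorAlgebra.ιMulti R (k + 1) v - ExteriorAlgebra.ιMulti R (k + 1) (fun i => s (g (v i))) := by
    intro k
    induction k with
    | zero =>
      intro h v
      refine ⟨exteriorPower.ιMulti R 1 (fun i => ρ (v i)) ⊗ₜ exteriorPower.ιMulti R 0 (fun i => i.elim0), ?_⟩
      show ((exteriorPower.map 1 f _ : ⋀[R]^1 M) : ExteriorAlgebra R M) * _ = _
      rw [coe_map_ιMulti, exteriorPower.ιMulti_apply_coe, ExteriorAlgebra.ιMulti_zero_apply, mul_one]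
      simp [ExteriorAlgebra.ιMulti_succ_apply, hρ, map_sub]
    | succ k ih =>
      intro h v
      obtain ⟨y, hy⟩ := ih (by omega) (Fin.tail v)
      let a := ExteriorAlgebra.ι R (v 0)
      let b := ExteriorAlgebra.ι R (s (g (v 0)))
      have h1 : ∃ z, (wedgeT f h z : ExteriorAlgebra R M) = (a - b) * ExteriorAlgebra.ιMulti R (k + 1) (Fin.tail v) := by
        refine ⟨exteriorPower.ιMulti R 1 (fun _ => ρ (v 0)) ⊗ₜ exteriorPower.ιMulti R (k + 1) (Fin.tail v), ?_⟩
        show ((exteriorPower.map 1 f _ : ⋀[R]^1 M) : ExteriorAlgebra R M) * _ = _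
        rw [coe_map_ιMulti, exteriorPower.ιMulti_apply_coe]
        simp [ExteriorAlgebra.ιMulti_succ_apply, hρ, map_sub, a, b]
      have h2 : ∃ z, (wedgeT f h z : ExteriorAlgebra R M) = b * (wedgeT f (show 1 + k = k + 1 by omega) y : ExteriorAlgebra R M) := by
        clear hy
        induction y using TensorProduct.induction_on with
        | zero => exact ⟨0, by simp⟩
        | add c d hc hd =>
          obtain ⟨c', hc'⟩ := hc
          obtain ⟨d', hd'⟩ := hd
          exact ⟨c' + d', by simp only [map_add, Submodule.coe_add, hc', hd', mul_add]⟩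
        | tmul c d =>
          have hbd : b * (d : ExteriorAlgebra R M) ∈ ⋀[R]^(k + 1) M := by
            have := mul_mem (show 1 + k = k + 1 by omega) (exteriorPower.ιMulti R 1 fun _ => s (g (v 0))) d
            rwa [exteriorPower.ιMulti_apply_coe, ExteriorAlgebra.ιMulti_succ_apply, ExteriorAlgebra.ιMulti_zero_apply,
              mul_one] at this
          refine ⟨(-c) ⊗ₜ ⟨_, hbd⟩, ?_⟩
          show ((exteriorPower.map 1 f (-c) : ⋀[R]^1 M) : ExteriorAlgebra R M) * (b * d) = _
          rw [map_neg, Submodule.coe_neg, neg_mul]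
          show -(((exteriorPower.map 1 f c : ⋀[R]^1 M) : ExteriorAlgebra R M) * (b * d)) =
            b * (((exteriorPower.map 1 f c : ⋀[R]^1 M) : ExteriorAlgebra R M) * d)
          obtain ⟨x, hx⟩ : ((exteriorPower.map 1 f c : ⋀[R]^1 M) : ExteriorAlgebra R M) ∈
              LinearMap.range (ExteriorAlgebra.ι R : M →ₗ[R] ExteriorAlgebra R M) := by
            exact (pow_one (LinearMap.range (ExteriorAlgebra.ι R : M →ₗ[R] ExteriorAlgebra R M))).le
              (exteriorPower.map 1 f c).2
          rw [← hx, ← mul_assoc, ← mul_assoc, ← neg_mul]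
          congr 1
          exact neg_eq_of_add_eq_zero_right (ExteriorAlgebra.ι_add_mul_swap x (s (g (v 0))))
      obtain ⟨z₁, hz₁⟩ := h1
      obtain ⟨z₂, hz₂⟩ := h2
      refine ⟨z₁ + z₂, ?_⟩
      rw [map_add, Submodule.coe_add, hz₁, hz₂, hy, ExteriorAlgebra.ιMulti_succ_apply v,
        ExteriorAlgebra.ιMulti_succ_apply (fun i => s (g (v i)))]
      show (a - b) * _ + b * (_ - _) = a * ExteriorAlgebra.ιMulti R (k + 1) (Fin.tail v) -
        b * ExteriorAlgebra.ιMulti R (k + 1) (fun i => s (g (Fin.tail v i)))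
      rw [sub_mul, mul_sub]
      abel
  intro z hz
  have hz' : z - exteriorPower.map (k + 1) s (exteriorPower.map (k + 1) g z) ∈ LinearMap.range (wedgeT f h) := by
    let F : (⋀[R]^(k + 1) M) →ₗ[R] (⋀[R]^(k + 1) M) :=
      LinearMap.id - (exteriorPower.map (k + 1) s).comp (exteriorPower.map (k + 1) g)
    show z ∈ (LinearMap.range (wedgeT f h)).comap F
    refine (Submodule.span_le.2 ?_) ((exteriorPower.ιMulti_span R (k + 1) (M := M)) ▸ Submodule.mem_top (x := z))
    rintro _ ⟨v, rfl⟩
    obtain ⟨y, hy⟩ := key k h v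
    refine ⟨y, Subtype.ext (hy.trans ?_)⟩
    simp only [F, LinearMap.sub_apply, LinearMap.id_coe, id_eq, LinearMap.comp_apply,
      exteriorPower.map_apply_ιMulti, Submodule.coe_sub, exteriorPower.ιMulti_apply_coe]
    rfl
  rwa [LinearMap.mem_ker.1 hz, map_zero, sub_zero] at hz'

end Split

end Groth.Agent.ExtSeq
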