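import Groth.Agent.ExtPowLib.Unique
import Groth.Agent.ProjTwistLib.Lift
import Groth.Agent.DCohLib.Pullback

/-!
# Pairings given on affine opens, and exterior powers given by their isomorphisms
-/

set_option autoImplicit false
set_option backward.isDefEq.respectTransparency false
set_option linter.style.haveILetI false
set_option maxHeartbeats 800000

universe u

open CategoryTheory CategoryTheory.Limits AlgebraicGeometry TopologicalSpace Opposite
open Groth.Agent.PullbackMod Groth.Agent.DCohLib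
open scoped TensorProduct

noncomputable section

namespace Groth.Agent.ExtSeq

variable {X : Scheme.{u}}

/-- Restriction of sections. -/
abbrev rs (M : X.Modules) {U V : X.Opens} (h : V ≤ U) (m : Γ(M, U)) : Γ(M, V) :=
  M.presheaf.map (homOfLE h).op m

theorem rs_smul (M : X.Modules) {U V : X.Opens} (h : V ≤ U) (r : Γ(X, U)) (m : Γ(M, U)) :
    rs M h (r • m) = X.presheaf.map (homOfLE h).op r • rs M h m :=
  M.map_smul (homOfLE h) r m

theorem rs_rs (M : X.Modules) {U V W : X.Opens} (h : V ≤ U) (h' : W ≤ V) (m : Γ(M, U)) :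
    rs M h' (rs M h m) = rs M (h'.trans h) m :=
  ParaFLib.res_res h h' m

/-- Sections agreeing on affine opens agree. -/
theorem ext_affine (P : X.Modules) {O : X.Opens} {s t : Γ(P, O)}
    (h : ∀ (W : X.affineOpens) (hW : W.1 ≤ O), rs P hW s = rs P hW t) : s = t :=
  TopCat.Sheaf.eq_of_locally_eq' (⟨P.presheaf, P.isSheaf⟩ : TopCat.Sheaf Ab.{u} X.carrier)
    (fun W : {W : X.affineOpens // W.1 ≤ O} => W.1.1) O (fun W => homOfLE W.2) (fun x hx => by
      obtain ⟨_, ⟨V, hV, rfl⟩, hxV, hVO⟩ := X.isBasis_affineOpens.exists_subset_of_mem_open hx O.2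
      exact Opens.mem_iSup.2 ⟨⟨⟨V, hV⟩, hVO⟩, hxV⟩) s t fun W => h W.1 W.2

variable {M N P : X.Modules}

/-- Bilinear data on affine opens define a pairing. -/
theorem exists_pairing (f : ∀ U : X.affineOpens, Γ(M, U.1) →ₗ[Γ(X, U.1)] Γ(N, U.1) →ₗ[Γ(X, U.1)] Γ(P, U.1))
    (hres : ∀ (U V : X.affineOpens) (h : V.1 ≤ U.1) (m : Γ(M, U.1)) (n : Γ(N, U.1)),
      rs P h (f U m n) = f V (rs M h m) (rs N h n)) :
    ∃ φ : ProjTwistLib.Pairing M N P, ∀ (U : X.affineOpens) (m : Γ(M, U.1)) (n : Γ(N, U.1)), φ.f U.1 m n = f U m n := by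
  have hex : ∀ (O : X.Opens) (m : Γ(M, O)) (n : Γ(N, O)), ∃ s : Γ(P, O),
      ∀ (W : X.affineOpens) (hW : W.1 ≤ O), rs P hW s = f W (rs M hW m) (rs N hW n) := by
    intro O m n
    obtain ⟨s, hs, -⟩ := TopCat.Sheaf.existsUnique_gluing' (⟨P.presheaf, P.isSheaf⟩ : TopCat.Sheaf Ab.{u} X.carrier)
      (fun W : {W : X.affineOpens // W.1 ≤ O} => W.1.1) O (fun W => homOfLE W.2) (fun x hx => by
        obtain ⟨_, ⟨V, hV, rfl⟩, hxV, hVO⟩ := X.isBasis_affineOpens.exists_subset_of_mem_open hx O.2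
        exact Opens.mem_iSup.2 ⟨⟨⟨V, hV⟩, hVO⟩, hxV⟩)
      (fun W => f W.1 (rs M W.2 m) (rs N W.2 n)) (fun W W' => by
        refine ext_affine P fun Z hZ => ?_
        show rs P hZ (rs P inf_le_left (f W.1 _ _)) = rs P hZ (rs P inf_le_right (f W'.1 _ _))
        rw [rs_rs, rs_rs, hres, hres, rs_rs, rs_rs, rs_rs, rs_rs])
    exact ⟨s, fun W hW => hs ⟨W, hW⟩⟩
  choose g hg using hex
  have addl : ∀ O (m m' : Γ(M, O)) (n : Γ(N, O)), g O (m + m') n = g O m n + g O m' n := fun O m m' n =>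
    ext_affine P fun W hW => by
      simp only [rs] at hg ⊢
      simp only [map_add, hg, LinearMap.add_apply]
  have addr : ∀ O (m : Γ(M, O)) (n n' : Γ(N, O)), g O m (n + n') = g O m n + g O m n' := fun O m n n' =>
    ext_affine P fun W hW => by
      simp only [rs] at hg ⊢
      simp only [map_add, hg]
  refine ⟨⟨fun O => AddMonoidHom.mk' (fun m => AddMonoidHom.mk' (g O m) (addr O m))
    (fun m m' => AddMonoidHom.ext (addl O m m')), ?_, ?_, ?_⟩, fun U m n => ?_⟩
  · intro O r m n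
    refine ext_affine P fun W hW => ?_
    show rs P hW (g O (r • m) n) = rs P hW (r • g O m n)
    rw [hg, rs_smul, rs_smul, hg, map_smul, LinearMap.smul_apply]
  · intro O r m n
    refine ext_affine P fun W hW => ?_
    show rs P hW (g O m (r • n)) = rs P hW (r • g O m n)
    rw [hg, rs_smul, rs_smul, hg, map_smul]
  · intro U V h m n
    refine ext_affine P fun W hW => ?_
    show rs P hW (g V (rs M h m) (rs N h n)) = rs P hW (rs P h (g U m n))
    rw [hg, rs_rs, rs_rs, rs_rs, hg]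
  · show g U.1 m n = f U m n
    have h := hg U.1 m n U le_rfl
    simp only [rs, show (homOfLE (le_refl U.1)).op = 𝟙 (op U.1) from Subsingleton.elim _ _,
      CategoryTheory.Functor.map_id] at h
    exact h

/-- Sections of a tensor product from tensors of sections. -/
def beta (M N : X.Modules) (V : X.Opens) : Γ(M, V) ⊗[Γ(X, V)] Γ(N, V) →ₗ[Γ(X, V)] Γ(tmod M N, V) :=
  TensorProduct.lift (LinearMap.mk₂ Γ(X, V) (fun m n => pairS M N m n) pairS_add_left pairS_smul_left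
    pairS_add_right pairS_smul_right)

theorem beta_tmul {V : X.Opens} (m : Γ(M, V)) (n : Γ(N, V)) : beta M N V (m ⊗ₜ n) = pairS M N m n := rfl

theorem exists_beta_res {U V : X.Opens} (h : V ≤ U) (t : Γ(M, U) ⊗[Γ(X, U)] Γ(N, U)) :
    ∃ t' : Γ(M, V) ⊗[Γ(X, V)] Γ(N, V), beta M N V t' = rs (tmod M N) h (beta M N U t) := by
  induction t using TensorProduct.induction_on with
  | zero => exact ⟨0, by simp⟩
  | tmul m n => exact ⟨rs M h m ⊗ₜ rs N h n, (res_pairS h m n).symm⟩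
  | add a b ha hb =>
    obtain ⟨a', ha'⟩ := ha
    obtain ⟨b', hb'⟩ := hb
    exact ⟨a' + b', by simp only [map_add, ha', hb', rs]⟩

/-- An affine neighbourhood inside an open. -/
theorem exists_affine_nhd {x : X} {U : X.Opens} (hx : x ∈ U) : ∃ V : X.affineOpens, x ∈ V.1 ∧ V.1 ≤ U := by
  obtain ⟨_, ⟨V, hV, rfl⟩, hxV, hVU⟩ := X.isBasis_affineOpens.exists_subset_of_mem_open hx U.2
  exact ⟨⟨V, hV⟩, hxV, hVU⟩

/-- Germs of tensor products come from tensors of sections on affine neighbourhoods. -/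
theorem exists_rep (x : X) (z : (tmod M N).presheaf.stalk x) :
    ∃ (V : X.affineOpens) (hx : x ∈ V.1) (t : Γ(M, V.1) ⊗[Γ(X, V.1)] Γ(N, V.1)),
      (tmod M N).presheaf.germ V.1 x hx (beta M N V.1 t) = z := by
  obtain ⟨w, rfl⟩ := (stalkTensor x M N).surjective z
  induction w using TensorProduct.induction_on with
  | zero =>
    obtain ⟨V, hx, -⟩ := exists_affine_nhd (x := x) (U := ⊤) trivial
    exact ⟨V, hx, 0, by simp⟩
  | tmul a b =>
    obtain ⟨U, hU, m, n, rfl, rfl⟩ := exists_common_germ x a b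
    obtain ⟨V, hx, hVU⟩ := exists_affine_nhd hU
    refine ⟨V, hx, rs M hVU m ⊗ₜ rs N hVU n, ?_⟩
    rw [beta_tmul]
    refine Eq.trans ?_ (stalkTensorHom_tmul x hU m n).symm
    exact (congrArg _ (res_pairS hVU m n).symm).trans (TopCat.Presheaf.germ_res_apply _ (homOfLE hVU) x hx _)
  | add a b ha hb =>
    obtain ⟨V₁, h₁, t₁, e₁⟩ := ha
    obtain ⟨V₂, h₂, t₂, e₂⟩ := hb
    obtain ⟨V, hx, hV⟩ := exists_affine_nhd (U := V₁.1 ⊓ V₂.1) ⟨h₁, h₂⟩
    obtain ⟨s₁, hs₁⟩ := exists_beta_res (hV.trans inf_le_left) t₁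
    obtain ⟨s₂, hs₂⟩ := exists_beta_res (hV.trans inf_le_right) t₂
    refine ⟨V, hx, s₁ + s₂, ?_⟩
    rw [map_add, map_add, map_add, hs₁, hs₂, TopCat.Presheaf.germ_res_apply, TopCat.Presheaf.germ_res_apply, e₁, e₂]

/-- An exterior power with its structure isomorphisms. -/
structure EP (i : ℕ) (E L : X.Modules) where
  /-- The isomorphisms. -/
  φ : ∀ U : X.affineOpens, Γ(L, U.1) ≃ₗ[Γ(X, U.1)] ↥(⋀[Γ(X, U.1)]^i Γ(E, U.1))
  comp : ∀ (U V : X.affineOpens) (h : V.1 ≤ U.1) (e : Fin i → Γ(E, U.1)),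
    rs L h ((φ U).symm (exteriorPower.ιMulti _ i e)) = (φ V).symm (exteriorPower.ιMulti _ i fun j => rs E h (e j))

theorem nonempty_EP {i : ℕ} {E L : X.Modules} (h : ExtPow.IsExtPow i E L) : Nonempty (EP i E L) := by
  obtain ⟨φ, hφ⟩ := h
  exact ⟨⟨φ, hφ⟩⟩

/-- The restriction of exterior powers of sections. -/
abbrev resExt (i : ℕ) (E : X.Modules) {U V : X.Opens} (h : V ≤ U) :
    ↥(⋀[Γ(X, U)]^i Γ(E, U)) →+ ↥(⋀[Γ(X, V)]^i Γ(E, V)) :=
  ExtPowLib.res i (X.presheaf.map (homOfLE h).op).hom (E.presheaf.map (homOfLE h).op).hom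
    fun r m => E.map_smul (homOfLE h) r m

theorem EP.rs_symm {i : ℕ} {E L : X.Modules} (d : EP i E L) {U V : X.affineOpens} (h : V.1 ≤ U.1)
    (z : ↥(⋀[Γ(X, U.1)]^i Γ(E, U.1))) : rs L h ((d.φ U).symm z) = (d.φ V).symm (resExt i E h z) := by
  refine ExtPowLib.induction_ιMulti i (P := fun z => rs L h ((d.φ U).symm z) = (d.φ V).symm (resExt i E h z)) ?_ ?_ ?_ z
  · simp [rs]
  · intro a b ha hb
    simp only [rs, map_add] at *
    rw [ha, hb]
  · intro r v
    rw [map_smul, rs_smul, d.comp U V h, resExt, ExtPowLib.res_smul, ExtPowLib.res_ιMulti, map_smul]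
    rfl

theorem EP.apply_rs {i : ℕ} {E L : X.Modules} (d : EP i E L) {U V : X.affineOpens} (h : V.1 ≤ U.1)
    (z : Γ(L, U.1)) : d.φ V (rs L h z) = resExt i E h (d.φ U z) := by
  conv_lhs => rw [← (d.φ U).symm_apply_apply z, d.rs_symm h, LinearEquiv.apply_symm_apply]

end Groth.Agent.ExtSeq
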