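import Groth.Agent.ExtSeqLib.Alg
import Groth.Agent.ExtSeqLib.Bilin
import Groth.Agent.PullbackMod.FibreRank

/-!
# Maps between exterior powers in an extension of vector bundles
-/

set_option autoImplicit false
set_option backward.isDefEq.respectTransparency false
set_option linter.style.haveILetI false
set_option linter.unusedSectionVars false
set_option maxHeartbeats 1000000

universe u

open CategoryTheory CategoryTheory.Limits AlgebraicGeometry TopologicalSpace Opposite
open Groth.Agent.PullbackMod Groth.Agent.DCohLib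
open scoped TensorProduct

noncomputable section

namespace Groth.Agent.ExtSeq

variable {X : Scheme.{u}}

/-- Restriction commutes with maps of sections. -/
theorem rs_app {M N : X.Modules} (φ : M ⟶ N) {U V : X.Opens} (h : V ≤ U) (m : Γ(M, U)) :
    rs N h (φ.app U m) = φ.app V (rs M h m) := by
  exact (congr($(φ.mapPresheaf.naturality (homOfLE h).op) m)).symm

/-- Restriction commutes with maps of exterior powers. -/
theorem resExt_map {E F : X.Modules} (u : E ⟶ F) (i : ℕ) {U V : X.Opens} (h : V ≤ U)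
    (z : ↥(⋀[Γ(X, U)]^i Γ(E, U))) :
    resExt i F h (exteriorPower.map i (FlatLocus.appL u U) z) = exteriorPower.map i (FlatLocus.appL u V) (resExt i E h z) := by
  refine ExtPowLib.induction_ιMulti i (P := fun z => resExt i F h (exteriorPower.map i (FlatLocus.appL u U) z) =
    exteriorPower.map i (FlatLocus.appL u V) (resExt i E h z)) ?_ ?_ ?_ z
  · simp
  · intro a b ha hb
    simp only [map_add, ha, hb]
  · intro r v
    simp only [resExt, map_smul, ExtPowLib.res_smul, ExtPowLib.res_ιMulti, exteriorPower.map_apply_ιMulti]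
    congr 2
    funext j
    exact rs_app u h (v j)

/-- Restriction commutes with products of exterior powers. -/
theorem resExt_wedge {E F : X.Modules} (u : E ⟶ F) {p k n : ℕ} (hn : p + k = n) {U V : X.Opens} (h : V ≤ U)
    (a : ↥(⋀[Γ(X, U)]^p Γ(E, U))) (e : ↥(⋀[Γ(X, U)]^k Γ(F, U))) :
    resExt n F h (wedge (FlatLocus.appL u U) hn a e) =
      wedge (FlatLocus.appL u V) hn (resExt p E h a) (resExt k F h e) := by
  refine ExtPowLib.induction_ιMulti p (P := fun a => resExt n F h (wedge (FlatLocus.appL u U) hn a e) =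
    wedge (FlatLocus.appL u V) hn (resExt p E h a) (resExt k F h e)) ?_ ?_ ?_ a
  · simp
  · intro a b ha hb
    simp only [map_add, LinearMap.add_apply, ha, hb]
  · intro r v
    refine ExtPowLib.induction_ιMulti k (P := fun e => resExt n F h (wedge (FlatLocus.appL u U) hn (r • exteriorPower.ιMulti _ p v) e) =
      wedge (FlatLocus.appL u V) hn (resExt p E h (r • exteriorPower.ιMulti _ p v)) (resExt k F h e)) ?_ ?_ ?_ e
    · simp
    · intro a b ha hb
      simp only [map_add, ha, hb]
    · intro r' w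
      simp only [resExt, map_smul, LinearMap.smul_apply, ExtPowLib.res_smul, ExtPowLib.res_ιMulti, wedge_ιMulti]
      congr 3
      funext i
      simp only [Function.comp_apply]
      refine Fin.addCases (fun j => ?_) (fun j => ?_) (Fin.cast hn.symm i)
      · simp only [Fin.append_left, Function.comp_apply]
        exact rs_app u h (v j)
      · simp only [Fin.append_right, Function.comp_apply]

/-- An extension of vector bundles with exterior powers of the three of them. -/
structure Data (X : Scheme.{u}) where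
  /-- The extension. -/
  S : ShortComplex X.Modules
  hS : S.ShortExact
  h₁ : FlatMod.IsFinLocFree S.X₁
  h₂ : FlatMod.IsFinLocFree S.X₂
  h₃ : FlatMod.IsFinLocFree S.X₃
  /-- The exterior powers of the subbundle. -/
  L' : ℕ → X.Modules
  /-- The exterior powers of the bundle. -/
  L : ℕ → X.Modules
  /-- The exterior powers of the quotient. -/
  L'' : ℕ → X.Modules
  /-- Their structure isomorphisms. -/
  d' : ∀ i, EP i S.X₁ (L' i)
  /-- Their structure isomorphisms. -/
  d : ∀ i, EP i S.X₂ (L i)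
  /-- Their structure isomorphisms. -/
  d'' : ∀ i, EP i S.X₃ (L'' i)

variable (D : Data X)

theorem Data.exists_split (V : X.affineOpens) :
    Function.Injective (FlatLocus.appL D.S.f V.1) ∧ Function.Exact (FlatLocus.appL D.S.f V.1) (FlatLocus.appL D.S.g V.1) ∧
      ∃ s : Γ(D.S.X₃, V.1) →ₗ[Γ(X, V.1)] Γ(D.S.X₂, V.1), (FlatLocus.appL D.S.g V.1).comp s = LinearMap.id := by
  obtain ⟨hq₁, -⟩ := PullbackMod.isQCoh_and_isFP_of_isFinLocFree _ D.h₁
  obtain ⟨hq₃, hp₃⟩ := PullbackMod.isQCoh_and_isFP_of_isFinLocFree _ D.h₃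
  haveI := hq₃
  refine ⟨QCohLib.app_injective D.hS V.1, fun z => ⟨fun h => QCohLib.app_exact D.hS V.1 z h, ?_⟩, ?_⟩
  · rintro ⟨t, rfl⟩
    exact QCohLib.app_g_f (S := D.S) V.1 t
  · haveI := QCohLib.finitePresentation_sections _ hp₃ V.2
    haveI := PullbackMod.flat_sections_of_flat_stalks D.S.X₃ V.2 fun x => PullbackMod.isFlat_of_isFinLocFree _ D.h₃ x
    haveI : Module.Projective Γ(X, V.1) Γ(D.S.X₃, V.1) := Module.Flat.projective_of_finitePresentation
    exact Module.projective_lifting_property _ _ (QCohLib.app_surjective D.hS hq₁ V.2)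

/-- The product on sections. -/
def Data.wedgeΓ {p k n : ℕ} (hn : p + k = n) (V : X.affineOpens) :
    Γ(D.L' p, V.1) ⊗[Γ(X, V.1)] Γ(D.L k, V.1) →ₗ[Γ(X, V.1)] Γ(D.L n, V.1) :=
  ((D.d n).φ V).symm.toLinearMap.comp ((wedgeT (FlatLocus.appL D.S.f V.1) hn).comp
    (TensorProduct.map ((D.d' p).φ V).toLinearMap ((D.d k).φ V).toLinearMap))

/-- The projection on sections. -/
def Data.projΓ (k : ℕ) (V : X.affineOpens) : Γ(D.L k, V.1) →ₗ[Γ(X, V.1)] Γ(D.L'' k, V.1) :=
  ((D.d'' k).φ V).symm.toLinearMap.comp ((exteriorPower.map k (FlatLocus.appL D.S.g V.1)).comp ((D.d k).φ V).toLinearMap)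

theorem Data.exists_m {p k n : ℕ} (hn : p + k = n) :
    ∃ m : tmod (D.L' p) (D.L k) ⟶ D.L n, ∀ (V : X.affineOpens) (t : Γ(D.L' p, V.1) ⊗[Γ(X, V.1)] Γ(D.L k, V.1)),
      m.app V.1 (beta _ _ V.1 t) = D.wedgeΓ hn V t := by
  obtain ⟨φ, hφ⟩ := exists_pairing (M := D.L' p) (N := D.L k) (P := D.L n)
    (fun V => (TensorProduct.mk Γ(X, V.1) _ _).compr₂ (D.wedgeΓ hn V)) fun U V h m e => by
      show rs (D.L n) h (((D.d n).φ U).symm (wedge _ hn ((D.d' p).φ U m) ((D.d k).φ U e))) =
        ((D.d n).φ V).symm (wedge _ hn ((D.d' p).φ V (rs _ h m)) ((D.d k).φ V (rs _ h e)))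
      rw [(D.d n).rs_symm h, (D.d' p).apply_rs h, (D.d k).apply_rs h, resExt_wedge]
  refine ⟨φ.lift, fun V t => ?_⟩
  induction t using TensorProduct.induction_on with
  | zero => simp only [map_zero]
  | tmul a b => rw [beta_tmul, φ.lift_pairS, hφ]; rfl
  | add a b ha hb => rw [map_add, map_add, map_add, ha, hb]

/-- The products. -/
def Data.m {p k n : ℕ} (hn : p + k = n) : tmod (D.L' p) (D.L k) ⟶ D.L n := (D.exists_m hn).choose

theorem Data.m_app {p k n : ℕ} (hn : p + k = n) (V : X.affineOpens)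
    (t : Γ(D.L' p, V.1) ⊗[Γ(X, V.1)] Γ(D.L k, V.1)) : (D.m hn).app V.1 (beta _ _ V.1 t) = D.wedgeΓ hn V t :=
  (D.exists_m hn).choose_spec V t

theorem Data.exists_q (k : ℕ) : ∃ q : D.L k ⟶ D.L'' k, ∀ (V : X.affineOpens) (z : Γ(D.L k, V.1)),
    q.app V.1 z = D.projΓ k V z := by
  obtain ⟨q, hq⟩ := ProjBundleLib.exists_hom_of_affine (E := D.L k) (N := D.L'' k)
    (fun U => (D.projΓ k ⟨U.1, U.2⟩).toAddMonoidHom) (fun U hU r z => by
      let U' : X.affineOpens := ⟨U, hU⟩
      let V' : X.affineOpens := ⟨X.basicOpen r, hU.basicOpen r⟩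
      have h : V'.1 ≤ U'.1 := X.basicOpen_le r
      show rs (D.L'' k) h (((D.d'' k).φ U').symm (exteriorPower.map k _ ((D.d k).φ U' z))) =
        ((D.d'' k).φ V').symm (exteriorPower.map k _ ((D.d k).φ V' (rs _ h z)))
      rw [(D.d'' k).rs_symm h, (D.d k).apply_rs h, resExt_map])
    fun U a z => (D.projΓ k ⟨U.1, U.2⟩).map_smul a z
  exact ⟨q, fun V z => hq V.1 V.2 z⟩

/-- The projections. -/
def Data.q (k : ℕ) : D.L k ⟶ D.L'' k := (D.exists_q k).choose

theorem Data.q_app (k : ℕ) (V : X.affineOpens) (z : Γ(D.L k, V.1)) : (D.q k).app V.1 z = D.projΓ k V z :=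
  (D.exists_q k).choose_spec V z

/-- The maps onto the graded pieces. -/
def Data.a (p k : ℕ) : tmod (D.L' p) (D.L k) ⟶ tmod (D.L' p) (D.L'' k) :=
  ((DCoh.tensorBi (X := X)).obj (D.L' p)).map (D.q k)

theorem Data.a_app (p k : ℕ) (V : X.affineOpens) (t : Γ(D.L' p, V.1) ⊗[Γ(X, V.1)] Γ(D.L k, V.1)) :
    (D.a p k).app V.1 (beta _ _ V.1 t) = beta _ _ V.1 ((D.projΓ k V).lTensor _ t) := by
  induction t using TensorProduct.induction_on with
  | zero => simp only [map_zero]
  | tmul a b => rw [beta_tmul, LinearMap.lTensor_tmul, beta_tmul, Data.a, tensorBi_app_pairS_right, D.q_app]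
  | add a b ha hb => simp only [map_add, ha, hb]

/-- Algebraic vanishing of the projection gives vanishing of the sections. -/
theorem Data.lTensor_projΓ_eq_zero (p k : ℕ) (V : X.affineOpens) (t : Γ(D.L' p, V.1) ⊗[Γ(X, V.1)] Γ(D.L k, V.1))
    (h : (exteriorPower.map k (FlatLocus.appL D.S.g V.1)).lTensor _
      (TensorProduct.map ((D.d' p).φ V).toLinearMap ((D.d k).φ V).toLinearMap t) = 0) :
    (D.projΓ k V).lTensor _ t = 0 := by
  have e : (TensorProduct.map ((D.d' p).φ V).toLinearMap ((D.d'' k).φ V).toLinearMap).comp ((D.projΓ k V).lTensor _) =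
      ((exteriorPower.map k (FlatLocus.appL D.S.g V.1)).lTensor _).comp
        (TensorProduct.map ((D.d' p).φ V).toLinearMap ((D.d k).φ V).toLinearMap) := by
    ext a b
    simp [Data.projΓ]
  have h' := (LinearMap.congr_fun e t).trans h
  exact (TensorProduct.congr ((D.d' p).φ V) ((D.d'' k).φ V)).injective (h'.trans (map_zero _).symm)

end Groth.Agent.ExtSeq
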